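import Cfsg.Agent.GH.TOne.Basic

/-!
# GH-L2, `m_2(Q) = 2`: the abstract system behind `blueprints/GH-L2-M2-helper742.md`

`OSys` extends `TOne.Sys` by `A y`, the kernel of `o₁` on `C(y)` (`y ∈ X`): an involution `e` commuting with `y` is
* fixing `K y / O(K y)`: `e ∈ F y`;
* inner: `Inner K F y e`, `e ∉ F y`;
* of d-type: `e ∉ A y`;
* of f-type: `e ∈ A y`, `¬ Inner K F y e` (`FT`).
-/

set_option autoImplicit false

namespace Cfsg.Agent.GH.MTwo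

open Subgroup Cfsg.Agent.GH.TOne

variable {G : Type*} [Group G]

/-- `e` is an involution of f-type on `K y`. -/
structure FT (K F A : G → Subgroup G) (y e : G) : Prop where
  inv : Inv e
  comm : e * y = y * e
  mem : e ∈ A y
  not_inner : ¬ Inner K F y e

/-- `e` is an involution of d-type on `K y`. -/
structure DT (A : G → Subgroup G) (y e : G) : Prop where
  inv : Inv e
  comm : e * y = y * e
  notMem : e ∉ A y

/-- The abstract system: `TOne.Sys`, the facts (k1)-(k5) and (FS) of the blueprint. -/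
structure OSys (X : Set G) (K F A : G → Subgroup G) (n : ℕ) : Prop extends Sys X K F n where
  K_le_A : ∀ y ∈ X, K y ≤ A y
  F_le_A : ∀ y ∈ X, F y ≤ A y
  centA : ∀ y ∈ X, ∀ a ∈ A y, a * y = y * a
  conjA : ∀ y ∈ X, ∀ g : G, ∀ a ∈ A y, g * a * g⁻¹ ∈ A (g * y * g⁻¹)
  A_mul : ∀ y ∈ X, ∀ a b : G, a * y = y * a → b * y = y * b → a ∉ A y → b ∉ A y → a * b ∈ A y
  shareA : ∀ y ∈ X, ∀ t ∈ X, t ∈ F y → ∀ x : G, x * y = y * x → x * t = t * x → x ∈ A y → x ∈ A t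
  /-- (k3) -/
  k3 : ∀ y ∈ X, ∀ T : Subgroup G, SylC y T → ∀ x ∈ T, (∀ d ∈ T ⊓ K y, x * d = d * x) → x ∈ A y ∧ x * x ∈ F y
  /-- (k4) -/
  k4 : ∀ y ∈ X, ∀ T : Subgroup G, SylC y T → ∀ e ∈ T, Inv e → e ∉ A y → ∃ r s : G, DType n (T ⊓ K y) e r s
  k4ab : ∀ y ∈ X, ∀ e : G, DT A y e → ∀ P : Subgroup G, IsPGroup 2 P → (∀ p ∈ P, p * y = y * p ∧ p * e = e * p) →
    ∀ a ∈ P, ∀ b ∈ P, a * b * a⁻¹ * b⁻¹ ∈ F y
  /-- (k5): an f-type involution centralizes a Sylow 2-subgroup of `K y` -/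
  k5 : ∀ y ∈ X, ∀ T : Subgroup G, SylC y T → ∀ e : G, FT K F A y e →
    ∃ g : G, g * y = y * g ∧ g * e * g⁻¹ ∈ T ∧ ∀ d ∈ T ⊓ K y, g * e * g⁻¹ * d = d * (g * e * g⁻¹)
  k5b : ∀ y ∈ X, ∀ T : Subgroup G, SylC y T → ∀ e ∈ T, FT K F A y e → (∀ d ∈ T ⊓ K y, e * d = d * e) →
    ∃ d ∈ T ⊓ K y, Inv d ∧ (∃ x ∈ T ⊓ K y, x * d ≠ d * x) ∧ ∃ k ∈ K y, k * e * k⁻¹ = e * d
  k5c : ∀ y ∈ X, ∀ e : G, FT K F A y e → ∀ g : G, g * y = y * g → g * e = e * g → g ∈ A y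
  /-- `(T ⊓ A y) / Inn` is cyclic -/
  cyc : ∀ y ∈ X, ∀ T : Subgroup G, SylC y T → ∀ a ∈ T, ∀ b ∈ T, a ∈ A y → b ∈ A y → Inner K F y (a * a) →
    Inner K F y (b * b) → ¬ Inner K F y a → ¬ Inner K F y b → Inner K F y (a * b)
  three_le : ∀ y ∈ X, ∀ e : G, FT K F A y e → 3 ≤ n
  /-- (FS) -/
  fs : ∀ y ∈ X, ∀ t ∈ X, FT K F A y t → FT K F A t y
  fsQ : ∀ y ∈ X, ∀ t ∈ X, FT K F A y t → ∀ x ∈ F y, x * t = t * x → IsPGroup 2 (zpowers x) → x = 1 ∨ x = y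

/-- The results of section 5: inner pairs. -/
structure Five (X : Set G) (K F : G → Subgroup G) : Prop where
  mem_K : ∀ y ∈ X, ∀ t ∈ X, t ∉ F y → Inner K F y t → t ∈ K y
  invK : ∀ y ∈ X, ∀ t ∈ K y, Inv t → t ∈ X
  notX : ∀ y ∈ X, ∀ t ∈ K y, Inv t → y * t ∉ X

end Cfsg.Agent.GH.MTwo
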