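import Cfsg.Agent.GH.MTwo.Defs
import Cfsg.Agent.GH.TOne.Elem

/-!
# GH-L2, `m_2(Q) = 2`, section 8: the case `T = S` is impossible
-/

set_option autoImplicit false

namespace Cfsg.Agent.GH.MTwo

open Subgroup Cfsg.Agent.GH.TOne

variable {G : Type*} [Group G]

/-! ### Sylow tools -/

section syl

variable [Finite G]

/-- A Sylow 2-subgroup centralizing `y` is a Sylow 2-subgroup of `C(y)`. -/
theorem sylC_of_sylow (S : Sylow 2 G) {y : G} (h : ∀ s ∈ (S : Subgroup G), s * y = y * s) :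
    SylC y (S : Subgroup G) := by
  have : Fact (Nat.Prime 2) := ⟨Nat.prime_two⟩
  refine ⟨S.2, h, fun P hP _ => ?_⟩
  obtain ⟨Q, hQ⟩ := hP.exists_le_sylow
  have h1 : Nat.card (Q : Subgroup G) = Nat.card (S : Subgroup G) := by
    rw [Q.card_eq_multiplicity, S.card_eq_multiplicity]
  rw [← h1]
  exact card_le_of_le hQ

theorem exists_conj_le {y : G} {T P : Subgroup G} (h : SylC y T) (hP : IsPGroup 2 P)
    (hc : ∀ x ∈ P, x * y = y * x) : ∃ c : G, c * y = y * c ∧ ∀ x ∈ P, c * x * c⁻¹ ∈ T := by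
  obtain ⟨T', hT', hle⟩ := exists_sylC hP hc
  obtain ⟨c, hcy, hcT⟩ := hT'.exists_conj h
  refine ⟨c, hcy, fun x hx => ?_⟩
  rw [← hcT]
  exact ⟨x, hle hx, rfl⟩

/-- Every element of `S` has a conjugate `w` in `S` such that `C_S(w)` is a Sylow 2-subgroup of `C(w)`. -/
theorem exists_extremal (S : Sylow 2 G) {u : G} (hu : u ∈ (S : Subgroup G)) :
    ∃ w ∈ (S : Subgroup G), IsConj u w ∧ SylC w ((S : Subgroup G) ⊓ centralizer {w}) := by
  have : Fact (Nat.Prime 2) := ⟨Nat.prime_two⟩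
  obtain ⟨T, hT, hle⟩ := exists_sylC (y := u) (isPGroup_zpowers_of_mem S.2 hu) (by
    intro x hx
    obtain ⟨k, rfl⟩ := mem_zpowers_iff.1 hx
    exact (Commute.refl u).zpow_left k)
  have huT : u ∈ T := hle (mem_zpowers u)
  obtain ⟨Q, hQ⟩ := hT.two.exists_le_sylow
  obtain ⟨c, hc⟩ := MulAction.exists_smul_eq G Q S
  have hcT : ∀ x ∈ T, c * x * c⁻¹ ∈ (S : Subgroup G) := by
    intro x hx
    have h1 : x ∈ (Q : Subgroup G) := hQ hx
    have h2 : c * x * c⁻¹ ∈ (c • Q : Sylow 2 G) := by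
      rw [← MulAut.conj_apply]
      exact Subgroup.smul_mem_pointwise_smul _ _ _ h1
    rw [hc] at h2
    exact h2
  refine ⟨c * u * c⁻¹, hcT u huT, isConj_iff.2 ⟨c, rfl⟩, ?_⟩
  have h1 := hT.conj c
  have h2 : (S : Subgroup G) ⊓ centralizer {c * u * c⁻¹} = T.map (MulAut.conj c).toMonoidHom := by
    apply h1.eq_of_le (S.2.to_le inf_le_left)
    · intro x hx
      exact mem_centralizer_singleton_iff.1 hx.2
    · intro x hx
      refine ⟨?_, mem_centralizer_singleton_iff.2 (h1.cent x hx)⟩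
      obtain ⟨t, ht, rfl⟩ := hx
      exact hcT t ht
  rw [h2]
  exact h1

end syl

/-! ### the dihedral group and its d-type involutions -/

theorem two_pow_half {n : ℕ} (hn : 2 ≤ n) : 2 ^ (n - 1) = 2 * 2 ^ (n - 2) := by
  obtain ⟨m, rfl⟩ := Nat.exists_eq_add_of_le' hn
  rw [show m + 2 - 1 = m + 1 by omega, Nat.add_sub_cancel, pow_succ, mul_comm]

/-- d-type: `e ~_D e z` and `C_D(e) = ⟨z⟩`. -/
theorem dtype_facts {n : ℕ} (hn : 2 ≤ n) {D : Subgroup G} {e r s z : G} (h : DType n D e r s) (he : Inv e)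
    (hz : z ∈ D) (hzi : Inv z) (hc : z * e = e * z) :
    (∃ d ∈ D, d * e * d⁻¹ = e * z) ∧ ∀ d ∈ D, d * e = e * d → d = 1 ∨ d = z := by
  have hr := h.dih.rmem
  set c := r ^ 2 ^ (n - 2) with hcdef
  have hord : orderOf r = 2 * 2 ^ (n - 2) := by rw [h.dih.ord, two_pow_half hn]
  have hcc : c * c = 1 := by
    rw [hcdef, ← pow_add, ← two_mul, ← hord, pow_orderOf_eq_one]
  have her : ∀ i : ℕ, e * r ^ i = (r ^ i)⁻¹ * e := by
    intro i
    have h1 : e * r * e⁻¹ = r⁻¹ := by rw [he.inv_eq]; exact h.er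
    have h2 : e * r ^ i * e⁻¹ = (r ^ i)⁻¹ := by rw [← conj_pow, h1, inv_pow]
    rw [← h2, inv_mul_cancel_right]
  have hsr : ∀ i : ℕ, s * r ^ i = (r ^ i)⁻¹ * s := by
    intro i
    have hs : s⁻¹ = s := inv_eq_of_sq h.dih.sq
    have h1 : s * r * s⁻¹ = r⁻¹ := by rw [hs]; exact h.dih.rel
    have h2 : s * r ^ i * s⁻¹ = (r ^ i)⁻¹ := by rw [← conj_pow, h1, inv_pow]
    rw [← h2, inv_mul_cancel_right]
  -- the centralizer
  have hcent : ∀ d ∈ D, d * e = e * d → d = 1 ∨ d = c := by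
    intro d hd hde
    obtain ⟨i, rfl | rfl⟩ := h.dih.exh d hd
    · have h1 : r ^ i * r ^ i = 1 := by
        have h2 : r ^ i * e = (r ^ i)⁻¹ * e := by rw [hde, her]
        have h3 := mul_right_cancel h2
        nth_rewrite 1 [h3]
        exact inv_mul_cancel _
      rw [← pow_add, ← orderOf_dvd_iff_pow_eq_one, hord, ← two_mul] at h1
      have h2 : 2 ^ (n - 2) ∣ i := Nat.dvd_of_mul_dvd_mul_left (by norm_num) h1
      obtain ⟨j, rfl⟩ := h2
      rw [pow_mul, ← hcdef]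
      rcases Nat.even_or_odd j with ⟨k, rfl⟩ | ⟨k, rfl⟩
      · left
        rw [← two_mul, pow_mul, pow_two, hcc, one_pow]
      · right
        rw [pow_succ, pow_mul, pow_two, hcc, one_pow, one_mul]
    · exfalso
      -- `e r^i s e = r^{-i} s r`
      have h1 : e * (r ^ i * s) = (r ^ i)⁻¹ * (s * r) * e := by
        rw [← mul_assoc, her, mul_assoc, mul_assoc]
        congr 1
        have h2 := h.es
        rw [← h2, mul_assoc, mul_assoc, he.sq, mul_one]
      have h2 : r ^ i * s * e = (r ^ i)⁻¹ * (s * r) * e := by rw [hde, h1]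
      have h3 := mul_right_cancel h2
      have h4 : s * r = r⁻¹ * s := by
        have := hsr 1
        rwa [pow_one] at this
      rw [h4, ← mul_assoc] at h3
      have h5 := mul_right_cancel h3
      have h6 : r ^ (2 * i + 1) = 1 := by
        have : r ^ i * (r ^ i * r) = 1 := by
          nth_rewrite 1 [h5]
          group
        rw [show 2 * i + 1 = i + (i + 1) by ring, pow_add, pow_succ]
        exact this
      rw [← orderOf_dvd_iff_pow_eq_one, hord] at h6
      have : 2 ∣ 2 * i + 1 := (dvd_mul_right 2 _).trans h6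
      omega
  have hzc : z = c := by
    rcases hcent z hz hc with h1 | h1
    · exact absurd h1 hzi.ne
    · exact h1
  rw [hzc]
  refine ⟨?_, hcent⟩
  -- conjugates of `e` under `D`: `r^j e`
  have hconj : ∀ i : ℕ, r ^ i * e * (r ^ i)⁻¹ = r ^ (2 * i) * e := by
    intro i
    have h1 : e * (r ^ i)⁻¹ = r ^ i * e := by
      have := her i
      rw [eq_inv_mul_iff_mul_eq] at this
      rw [mul_inv_eq_iff_eq_mul, mul_assoc, her i, mul_inv_cancel_left]
    rw [mul_assoc, h1, ← mul_assoc, ← pow_add, two_mul]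
  have hs : s * e * s⁻¹ = r * e := by
    have h1 := h.es
    rw [inv_eq_of_sq h.dih.sq]
    calc s * e * s = s * (e * s * e) * e := by rw [mul_assoc, mul_assoc, mul_assoc, mul_assoc, he.sq, mul_one]
      _ = s * (s * r) * e := by rw [h1]
      _ = r * e := by rw [← mul_assoc, h.dih.sq, one_mul]
  have hce : e * c = c * e := by rw [hcdef, her, ← hcdef, inv_eq_of_sq hcc]
  rcases Nat.eq_or_lt_of_le hn with h2 | h2
  · -- `n = 2`: `c = r`
    refine ⟨s, h.dih.smem, ?_⟩
    rw [hs, hce, hcdef, ← h2]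
    simp
  · refine ⟨r ^ 2 ^ (n - 3), pow_mem hr _, ?_⟩
    rw [hconj, hce, hcdef]
    congr 2
    obtain ⟨m, rfl⟩ := Nat.exists_eq_add_of_le' (show 3 ≤ n by omega)
    rw [Nat.add_sub_cancel, show m + 3 - 2 = m + 1 by omega, pow_succ, mul_comm]

/-- `D` is generated by involutions. -/
theorem dih_induction {n : ℕ} {D : Subgroup G} {r s : G} (h : Dih n D r s) (M : Subgroup G)
    (hM : ∀ x ∈ D, x * x = 1 → x ∈ M) : D ≤ M := by
  have hs : s ∈ M := hM s h.smem h.sq
  have hrs : r * s ∈ M := by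
    refine hM _ (mul_mem h.rmem h.smem) ?_
    have h1 := h.rel
    calc r * s * (r * s) = r * (s * r * s) := by group
      _ = 1 := by rw [h1, mul_inv_cancel]
  have hr : r ∈ M := by
    have := mul_mem hrs hs
    rwa [mul_assoc, h.sq, mul_one] at this
  intro x hx
  obtain ⟨i, rfl | rfl⟩ := h.exh x hx
  · exact pow_mem hr _
  · exact mul_mem (pow_mem hr _) hs

/-! ### types -/

namespace OSys

variable {X : Set G} {K F A : G → Subgroup G} {n : ℕ} (h : OSys X K F A n)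
include h

theorem memA_conj_iff {y : G} (hy : y ∈ X) (g x : G) : g * x * g⁻¹ ∈ A (g * y * g⁻¹) ↔ x ∈ A y := by
  refine ⟨fun hx => ?_, fun hx => h.conjA y hy g x hx⟩
  have := h.conjA _ (h.conj y hy g) g⁻¹ _ hx
  simpa [mul_assoc] using this

theorem inner_le_A {y x : G} (hy : y ∈ X) (hx : Inner K F y x) : x ∈ A y := by
  obtain ⟨f, hf, k, hk, rfl⟩ := hx
  exact mul_mem (h.F_le_A y hy hf) (h.K_le_A y hy hk)

theorem ft_conj {y e : G} (hy : y ∈ X) (g : G) (he : FT K F A y e) : FT K F A (g * y * g⁻¹) (g * e * g⁻¹) where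
  inv := he.inv.conj g
  comm := by
    have := he.comm
    calc g * e * g⁻¹ * (g * y * g⁻¹) = g * (e * y) * g⁻¹ := by group
      _ = g * y * g⁻¹ * (g * e * g⁻¹) := by rw [this]; group
  mem := h.conjA y hy g e he.mem
  not_inner := fun hi => he.not_inner ((h.toSys.inner_conj_iff hy g e).1 hi)

/-- an involution commuting with two linked elements has the same type on both -/
theorem ft_share {y t e : G} (hy : y ∈ X) (ht : t ∈ X) (hty : t ∈ F y) (het : e * t = t * e)
    (he : FT K F A y e) : FT K F A t e where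
  inv := he.inv
  comm := het
  mem := h.shareA y hy t ht hty e he.comm het he.mem
  not_inner := fun hi => he.not_inner ((h.toSys.shareI_iff hy ht hty he.comm het).2 hi)

end OSys

/-! ### the situation of section 8 -/

/-- The situation of section 8. -/
structure Ctx8 (X : Set G) (K F A : G → Subgroup G) (n : ℕ) (S : Sylow 2 G) (y z : G) : Prop where
  sys : OSys X K F A n
  five : Five X K F
  hy : y ∈ X
  hz : z ∈ X
  yS : ∀ s ∈ (S : Subgroup G), s * y = y * s
  zS : ∀ s ∈ (S : Subgroup G), s * z = z * s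
  zK : z ∈ K y
  yK : y ∈ K z
  ne : ¬ IsConj y z

namespace Ctx8

variable {X : Set G} {K F A : G → Subgroup G} {n : ℕ} {S : Sylow 2 G} {y z : G}

theorem symm (h : Ctx8 X K F A n S y z) : Ctx8 X K F A n S z y where
  sys := h.sys
  five := h.five
  hy := h.hz
  hz := h.hy
  yS := h.zS
  zS := h.yS
  zK := h.yK
  yK := h.zK
  ne := fun hc => h.ne hc.symm

theorem hF (h : Ctx8 X K F A n S y z) : Sys X K F n := h.sys.toSys

variable [Finite G] (h : Ctx8 X K F A n S y z)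
include h

theorem syl : SylC y (S : Subgroup G) := sylC_of_sylow S h.yS

theorem yI : Inv y := h.hF.inv y h.hy

theorem zI : Inv z := h.hF.inv z h.hz

theorem y_mem : y ∈ (S : Subgroup G) := by
  apply h.syl.mem_of_normalizes (isPGroup_zpowers_of_sq h.yI.sq) rfl
  intro t ht
  rw [← h.yS t ht, mul_inv_cancel_right]
  exact ht

theorem z_mem : z ∈ (S : Subgroup G) := h.symm.y_mem

theorem mem_X {u : G} (hu : IsConj y u) : u ∈ X := by
  obtain ⟨c, rfl⟩ := isConj_iff.1 hu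
  exact h.hF.conj y h.hy c

theorem conj_z {t : G} (ht : t ∈ K y) (hti : Inv t) : IsConj t z := by
  obtain ⟨k, -, hk⟩ := h.hF.one y h.hy t ht z h.zK hti h.zI
  exact isConj_iff.2 ⟨k, hk⟩

theorem conj_z' {x t : G} (hx : IsConj y x) (ht : t ∈ K x) (hti : Inv t) : IsConj t z := by
  obtain ⟨c, rfl⟩ := isConj_iff.1 hx
  have h1 : c⁻¹ * t * c ∈ K y := by
    rw [← h.hF.memK_conj_iff h.hy c]
    have : c * (c⁻¹ * t * c) * c⁻¹ = t := by group
    rwa [this]
  have h2 : Inv (c⁻¹ * t * c) := by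
    have := hti.conj c⁻¹
    rwa [inv_inv] at this
  have h3 := h.conj_z h1 h2
  exact (isConj_iff.2 ⟨c⁻¹, by rw [inv_inv]⟩ : IsConj t (c⁻¹ * t * c)).trans h3

theorem yz_not : y * z ∉ X := h.five.notX y h.hy z h.zK h.zI

theorem not_y_yz : ¬ IsConj y (y * z) := fun hc => h.yz_not (h.mem_X hc)

theorem not_z_yz : ¬ IsConj z (y * z) := by
  intro hc
  have h1 := h.symm.mem_X hc
  exact h.yz_not h1

/-- (8.1) -/
theorem not_inner {u : G} (hu : IsConj y u) (hF : u ∉ F y) : ¬ Inner K F y u := by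
  intro hi
  have h1 := h.five.mem_K y h.hy u (h.mem_X hu) hF hi
  exact h.ne (hu.trans (h.conj_z h1 (h.hF.inv u (h.mem_X hu))))

/-- A conjugate of `y` in `S` can be moved to `y` with `C_S(u)` moved into `S`. -/
theorem exists_h {u : G} (hu : IsConj y u) (P : Subgroup G) (hP : IsPGroup 2 P) (hPu : ∀ s ∈ P, s * u = u * s) :
    ∃ g : G, g * u * g⁻¹ = y ∧ ∀ s ∈ P, g * s * g⁻¹ ∈ (S : Subgroup G) := by
  obtain ⟨c, hc⟩ := isConj_iff.1 hu.symm
  obtain ⟨g, hg, hgS⟩ := exists_conj_le h.syl (hP.map (MulAut.conj c).toMonoidHom) (by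
    rintro _ ⟨s, hs, rfl⟩
    have := hPu s hs
    change c * s * c⁻¹ * y = y * (c * s * c⁻¹)
    rw [← hc]
    calc c * s * c⁻¹ * (c * u * c⁻¹) = c * (s * u) * c⁻¹ := by group
      _ = c * u * c⁻¹ * (c * s * c⁻¹) := by rw [this]; group)
  refine ⟨g * c, ?_, ?_⟩
  · calc g * c * u * (g * c)⁻¹ = g * (c * u * c⁻¹) * g⁻¹ := by group
      _ = y := by rw [hc, hg]; group
  · intro s hs
    have := hgS (c * s * c⁻¹) ⟨s, hs, rfl⟩
    have e : g * c * s * (g * c)⁻¹ = g * (c * s * c⁻¹) * g⁻¹ := by group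
    rw [e]
    exact this

theorem exists_h' {u : G} (hu : IsConj y u) (huS : u ∈ (S : Subgroup G)) :
    ∃ g : G, g * u * g⁻¹ = y ∧ ∀ s ∈ (S : Subgroup G), s * u = u * s → g * s * g⁻¹ ∈ (S : Subgroup G) := by
  obtain ⟨g, hg, hgS⟩ := h.exists_h hu ((S : Subgroup G) ⊓ centralizer {u}) (S.2.to_le inf_le_left)
    (fun s hs => mem_centralizer_singleton_iff.1 hs.2)
  exact ⟨g, hg, fun s hs hsu => hgS s ⟨hs, mem_centralizer_singleton_iff.2 hsu⟩⟩

/-- (8.4) `Q₁` contains no conjugate of `z` -/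
theorem not_conj_z {x : G} (hxS : x ∈ (S : Subgroup G)) (hxF : x ∈ F y) : ¬ IsConj z x := by
  intro hc
  have hxX : x ∈ X := h.symm.mem_X hc
  obtain ⟨g, hg⟩ := isConj_iff.1 hc.symm
  have h1 : z ∈ K x := (h.hF.shareK_iff h.hy hxX hxF (h.yS z h.z_mem) (h.zS x hxS).symm
    (isPGroup_zpowers_of_sq h.zI.sq)).1 h.zK
  have h2 : g * z * g⁻¹ ∈ K z := by
    have := h.hF.conjK x hxX g z h1
    rwa [hg] at this
  have h3 := h.symm.conj_z h2 (h.zI.conj g)
  exact h.ne ((isConj_iff.2 ⟨g, rfl⟩ : IsConj z (g * z * g⁻¹)).trans h3).symm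

end Ctx8

end Cfsg.Agent.GH.MTwo
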