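import Cfsg.Agent.GH.MTwo.Eight

/-!
# GH-L2, `m_2(Q) = 2`, section 8: (8.2) no f-type conjugates of `y` in `S`
-/

set_option autoImplicit false
set_option linter.unusedSectionVars false

namespace Cfsg.Agent.GH.MTwo

open Subgroup Cfsg.Agent.GH.TOne

variable {G : Type*} [Group G]

/-- a nontrivial 2-element has an involution among its powers -/
theorem exists_inv_pow {x : G} (hp : IsPGroup 2 (zpowers x)) (hx : x ≠ 1) : ∃ k : ℕ, Inv (x ^ 2 ^ k) := by
  classical
  have hex : ∃ m : ℕ, x ^ 2 ^ m = 1 := by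
    obtain ⟨m, hm⟩ := hp ⟨x, mem_zpowers x⟩
    refine ⟨m, ?_⟩
    have := congrArg Subtype.val hm
    simpa using this
  have h1 := Nat.find_spec hex
  have h2 : Nat.find hex ≠ 0 := by
    intro h0
    rw [h0, pow_zero, pow_one] at h1
    exact hx h1
  obtain ⟨k, hk⟩ := Nat.exists_eq_succ_of_ne_zero h2
  refine ⟨k, ?_, ?_⟩
  · rw [← pow_add, ← two_mul, ← pow_succ']
    rw [hk] at h1
    exact h1
  · exact Nat.find_min hex (by rw [hk]; exact Nat.lt_succ_self k)

/-- inner elements modulo an involution `x` -/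
def half {X : Set G} {K F : G → Subgroup G} {n : ℕ} (h : Sys X K F n) {y x : G} (hy : y ∈ X) (hx : Inv x)
    (hxy : x * y = y * x) : Subgroup G where
  carrier := {b | Inner K F y b ∨ Inner K F y (b * x)}
  one_mem' := Or.inl (Sys.inner_of_F (one_mem _))
  mul_mem' := by
    have cj : ∀ {a : G}, Inner K F y a → Inner K F y (x * a * x) := by
      intro a ha
      have := h.conjI_self hy hxy ha
      rwa [hx.inv_eq] at this
    rintro a b (ha | ha) (hb | hb)
    · exact Or.inl (h.inner_mul hy ha hb)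
    · right
      rw [mul_assoc]
      exact h.inner_mul hy ha hb
    · right
      have := h.inner_mul hy ha (cj hb)
      have e : a * x * (x * b * x) = a * b * x := by
        calc a * x * (x * b * x) = a * (x * x) * b * x := by group
          _ = a * b * x := by rw [hx.sq, mul_one]
      rwa [e] at this
    · left
      have := h.inner_mul hy ha (cj hb)
      have e : a * x * (x * (b * x) * x) = a * b := by
        calc a * x * (x * (b * x) * x) = a * (x * x) * b * (x * x) := by group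
          _ = a * b := by rw [hx.sq, mul_one, mul_one]
      rwa [e] at this
  inv_mem' := by
    rintro a (ha | ha)
    · exact Or.inl (h.inner_inv hy ha)
    · right
      have := h.conjI_self hy hxy (h.inner_inv hy ha)
      have e : x * (a * x)⁻¹ * x⁻¹ = a⁻¹ * x := by
        rw [mul_inv_rev, hx.inv_eq]
        calc x * (x * a⁻¹) * x = (x * x) * a⁻¹ * x := by group
          _ = a⁻¹ * x := by rw [hx.sq, one_mul]
      rwa [e] at this

namespace Ctx8

variable {X : Set G} {K F A : G → Subgroup G} {n : ℕ} {S : Sylow 2 G} {y z : G}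
variable [Finite G] (h : Ctx8 X K F A n S y z)
include h

theorem y_notMem_K : y ∉ K y := fun hh => h.hF.disj_inv h.hy hh (h.hF.self y h.hy) h.yI

theorem exists_Q : ∃ a ∈ (S : Subgroup G) ⊓ F y, Inv a ∧ a ≠ y := by
  obtain ⟨t, ht, hti, hty⟩ := h.hF.rich y h.hy
  obtain ⟨c, hcy, hcS⟩ := exists_conj_le h.syl (isPGroup_zpowers_of_sq hti.sq) (by
    intro s hs
    obtain ⟨k, rfl⟩ := mem_zpowers_iff.1 hs
    exact (show Commute t y from h.hF.centF y h.hy t ht).zpow_left k)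
  refine ⟨c * t * c⁻¹, ⟨hcS t (mem_zpowers t), h.hF.conjF_self h.hy hcy ht⟩, hti.conj c, fun e => hty ?_⟩
  have : t = c⁻¹ * (c * t * c⁻¹) * c := by group
  rw [this, e, mul_assoc, ← hcy, inv_mul_cancel_left]

/-- `x ∈ S` an involution, `x ∉ Q₁`, `y` the only involution of `C_{Q₁}(x)`: then `x ~ x y` under `Q₁`. -/
theorem exists_p {x : G} (hxS : x ∈ (S : Subgroup G)) (hxi : Inv x) (hxF : x ∉ F y)
    (hQ : ∀ q ∈ (S : Subgroup G), q ∈ F y → q * x = x * q → q * q = 1 → q = 1 ∨ q = y) :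
    ∃ p ∈ (S : Subgroup G) ⊓ F y, p * x * p⁻¹ = x * y := by
  refine lemmaN (P := (S : Subgroup G)) (Q := (S : Subgroup G) ⊓ F y) S.2 inf_le_left ?_ hxS hxi (fun hh => hxF hh.2)
    (fun a ha h1 h2 => hQ a ha.1 ha.2 h1 h2) ?_
  · intro p hp q hq
    exact ⟨mul_mem (mul_mem hp hq.1) ((S : Subgroup G).inv_mem hp), h.hF.conjF_self h.hy (h.yS p hp) hq.2⟩
  · obtain ⟨a, ha, hai, hay⟩ := h.exists_Q
    exact ⟨a, ha, hai.sq, hai.ne, hay⟩

theorem commQD {q d : G} (hq : q ∈ (S : Subgroup G) ⊓ F y) (hd : d ∈ (S : Subgroup G) ⊓ K y) : q * d = d * q :=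
  h.hF.commQD S.2 h.hy hq.1 hd.1 hq.2 hd.2

theorem disjQD {x : G} (hx : x ∈ (S : Subgroup G)) (hF : x ∈ F y) (hK : x ∈ K y) : x = 1 :=
  h.hF.disjQD S.2 h.hy hx hK hF

/-- If `x ∈ S` commutes with `q d` it commutes with `q` and `d`. -/
theorem comm_split {x q d : G} (hx : x ∈ (S : Subgroup G)) (hq : q ∈ (S : Subgroup G) ⊓ F y)
    (hd : d ∈ (S : Subgroup G) ⊓ K y) (hc : x * (q * d) = q * d * x) : x * q = q * x ∧ x * d = d * x := by
  have h1 : q⁻¹ * (x * q * x⁻¹) = d * (x * d * x⁻¹)⁻¹ := by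
    have e : x * q * x⁻¹ * (x * d * x⁻¹) = q * d := by
      calc x * q * x⁻¹ * (x * d * x⁻¹) = x * (q * d) * x⁻¹ := by group
        _ = q * d := by rw [hc]; group
    rw [eq_mul_inv_iff_mul_eq, mul_assoc, e, inv_mul_cancel_left]
  have hxq : x * q * x⁻¹ ∈ (S : Subgroup G) ⊓ F y :=
    ⟨mul_mem (mul_mem hx hq.1) ((S : Subgroup G).inv_mem hx), h.hF.conjF_self h.hy (h.yS x hx) hq.2⟩
  have hxd : x * d * x⁻¹ ∈ (S : Subgroup G) ⊓ K y :=
    ⟨mul_mem (mul_mem hx hd.1) ((S : Subgroup G).inv_mem hx), h.hF.conjK_self h.hy (h.yS x hx) hd.2⟩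
  have h2 : q⁻¹ * (x * q * x⁻¹) ∈ K y := by
    rw [h1]
    exact mul_mem hd.2 (inv_mem hxd.2)
  have h3 : q⁻¹ * (x * q * x⁻¹) = 1 :=
    h.disjQD (mul_mem (inv_mem hq.1) hxq.1) (mul_mem (inv_mem hq.2) hxq.2) h2
  have h4 : x * q * x⁻¹ = q := (inv_mul_eq_one.1 h3).symm
  have h5 : x * q = q * x := by
    rw [mul_inv_eq_iff_eq_mul] at h4
    exact h4
  refine ⟨h5, ?_⟩
  rw [h3] at h1
  have h6 : d = x * d * x⁻¹ := (mul_inv_eq_one.1 h1.symm)
  rw [eq_mul_inv_iff_mul_eq] at h6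
  exact h6.symm

/-- (8.2) for `u` centralizing `D₁` -/
theorem not_ft_aux {u : G} (huS : u ∈ (S : Subgroup G)) (hu : IsConj y u) (hft : FT K F A y u)
    (hcD : ∀ d ∈ (S : Subgroup G) ⊓ K y, u * d = d * u) : False := by
  obtain ⟨g, hg, hgS⟩ := h.exists_h' hu huS
  have hyS := h.y_mem
  have huX := h.mem_X hu
  have hyi := h.yI
  obtain ⟨x, hx⟩ : ∃ x, x = g * y * g⁻¹ := ⟨_, rfl⟩
  have hxS : x ∈ (S : Subgroup G) := by
    rw [hx]
    exact hgS y hyS (h.yS u huS).symm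
  have hxc : IsConj y x := isConj_iff.2 ⟨g, hx.symm⟩
  have hxX := h.mem_X hxc
  have hxi : Inv x := h.hF.inv x hxX
  have fuy : FT K F A u y := h.sys.fs y h.hy u huX hft
  have fyx : FT K F A y x := by
    have := h.sys.ft_conj huX g fuy
    rwa [hg, ← hx] at this
  have hxy : x * y = y * x := fyx.comm
  have hxF : x ∉ F y := fun hh => fyx.not_inner (Sys.inner_of_F hh)
  have hQ : ∀ q ∈ (S : Subgroup G), q ∈ F y → q * x = x * q → q = 1 ∨ q = y := fun q hq hqF hqx =>
    h.sys.fsQ y h.hy x hxX fyx q hqF hqx (isPGroup_zpowers_of_mem S.2 hq)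
  -- membership in `F u` and `F y`
  have hFu : ∀ b : G, g * b * g⁻¹ ∈ F y ↔ b ∈ F u := by
    intro b
    have := h.hF.memF_conj_iff huX g b
    rwa [hg] at this
  -- involutions of `(D₁ × ⟨y⟩) ∩ F u`
  have inv1 : ∀ d ∈ (S : Subgroup G) ⊓ K y, d * d = 1 → ∀ b : G, (b = d ∨ b = d * y) → b ≠ 1 → b ∉ F u := by
    intro d hd hdd b hb hb1 hbF
    by_cases hd1 : d = 1
    · rcases hb with hb | hb
      · exact hb1 (hb.trans hd1)
      · rw [hb, hd1, one_mul] at hbF
        exact fuy.not_inner (Sys.inner_of_F hbF)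
    · have hdi : Inv d := ⟨hdd, hd1⟩
      have hdX : d ∈ X := h.five.invK y h.hy d hd.2 hdi
      rcases hb with hb | hb
      · rw [hb] at hbF
        have h1 : FT K F A d y := h.sys.ft_share huX hdX hbF (h.yS d hd.1).symm fuy
        have h2 := h.sys.fs d hdX y h.hy h1
        exact h2.not_inner (Sys.inner_of_K hd.2)
      · have hdy : d ≠ y := fun e => h.y_notMem_K (e ▸ hd.2)
        have h1 : Inv b := by
          rw [hb]
          exact hdi.mul hyi (h.yS d hd.1) hdy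
        have h2 := h.hF.closed u huX b hbF h1
        rw [hb, h.yS d hd.1] at h2
        exact h.five.notX y h.hy d hd.2 hdi h2
  have triv : ∀ d ∈ (S : Subgroup G) ⊓ K y, ∀ b : G, (b = d ∨ b = d * y) → b ∈ F u → b = 1 := by
    intro d hd b hb hbF
    by_contra hb1
    have hbS : b ∈ (S : Subgroup G) := by
      rcases hb with hb | hb <;> rw [hb]
      · exact hd.1
      · exact mul_mem hd.1 hyS
    obtain ⟨k, hk⟩ := exists_inv_pow (isPGroup_zpowers_of_mem S.2 hbS) hb1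
    rcases hb with hb | hb
    · refine inv1 (d ^ 2 ^ k) (pow_mem hd _) ?_ (b ^ 2 ^ k) (Or.inl (by rw [hb])) hk.ne (pow_mem hbF _)
      rw [← hb]
      exact hk.sq
    · have hcomm : Commute d y := h.yS d hd.1
      have hpow : b ^ 2 ^ k = d ^ 2 ^ k * y ^ 2 ^ k := by rw [hb, hcomm.mul_pow]
      have hy2 : y ^ 2 ^ k * y ^ 2 ^ k = 1 := by
        rw [← (Commute.refl y).mul_pow, hyi.sq, one_pow]
      have hd2 : d ^ 2 ^ k * d ^ 2 ^ k = 1 := by
        have h1 := hk.sq
        rw [hpow, Commute.mul_mul_mul_comm (hcomm.pow_pow _ _).symm, hy2, mul_one] at h1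
        exact h1
      refine inv1 (d ^ 2 ^ k) (pow_mem hd _) hd2 (b ^ 2 ^ k) ?_ hk.ne (pow_mem hbF _)
      rw [hpow]
      rcases Nat.eq_zero_or_pos k with h0 | h0
      · right
        rw [h0, pow_zero, pow_one, pow_one]
      · left
        obtain ⟨m, rfl⟩ := Nat.exists_eq_succ_of_ne_zero h0.ne'
        rw [pow_succ' 2 m, pow_mul y, pow_two, hyi.sq, one_pow, mul_one]
  -- every conjugate `g d g⁻¹` is inner or inner times `x`
  obtain ⟨r, s, hrs⟩ := h.hF.dih y h.hy _ h.syl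
  have hM : (S : Subgroup G) ⊓ K y ≤ (half h.hF h.hy hxi hxy).comap (MulAut.conj g).toMonoidHom := by
    apply dih_induction hrs
    intro d hd hdd
    change Inner K F y (g * d * g⁻¹) ∨ Inner K F y (g * d * g⁻¹ * x)
    by_cases hi : Inner K F y (g * d * g⁻¹)
    · exact Or.inl hi
    · right
      have hdS : g * d * g⁻¹ ∈ (S : Subgroup G) := hgS d hd.1 (hcD d hd).symm
      have hdx : g * d * g⁻¹ * x = x * (g * d * g⁻¹) := by
        have h1 := h.yS d hd.1
        rw [hx]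
        calc g * d * g⁻¹ * (g * y * g⁻¹) = g * (d * y) * g⁻¹ := by group
          _ = g * y * g⁻¹ * (g * d * g⁻¹) := by rw [h1]; group
      refine h.sys.cyc y h.hy _ h.syl _ hdS x hxS (h.sys.k5c y h.hy x fyx _ (h.yS _ hdS) hdx) fyx.mem ?_ ?_ hi
        fyx.not_inner
      · have : g * d * g⁻¹ * (g * d * g⁻¹) = 1 := by
          calc g * d * g⁻¹ * (g * d * g⁻¹) = g * (d * d) * g⁻¹ := by group
            _ = 1 := by rw [hdd]; group
        rw [this]
        exact Sys.inner_of_F (one_mem _)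
      · rw [hxi.sq]
        exact Sys.inner_of_F (one_mem _)
  -- `x` centralizes `D₁`
  have key : ∀ d : ↥((S : Subgroup G) ⊓ K y), ∃ δ : ↥((S : Subgroup G) ⊓ K y), ∃ q ∈ (S : Subgroup G) ⊓ F y,
      ∃ b : G, (b = (d : G) ∨ b = d * y) ∧ g * b * g⁻¹ = q * δ := by
    rintro ⟨d, hd⟩
    have hdS : g * d * g⁻¹ ∈ (S : Subgroup G) := hgS d hd.1 (hcD d hd).symm
    have hor : ∃ b : G, (b = d ∨ b = d * y) ∧ Inner K F y (g * b * g⁻¹) ∧ g * b * g⁻¹ ∈ (S : Subgroup G) := by
      rcases hM hd with h1 | h1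
      · exact ⟨d, Or.inl rfl, h1, hdS⟩
      · refine ⟨d * y, Or.inr rfl, ?_, ?_⟩
        · have e : g * (d * y) * g⁻¹ = g * d * g⁻¹ * x := by rw [hx]; group
          rw [e]
          exact h1
        · have e : g * (d * y) * g⁻¹ = g * d * g⁻¹ * x := by rw [hx]; group
          rw [e]
          exact mul_mem hdS hxS
    obtain ⟨b, hb, hbI, hbS⟩ := hor
    obtain ⟨q, hq, δ, hδ, e⟩ := h.hF.split y h.hy _ h.syl _ hbS hbI
    exact ⟨⟨δ, hδ⟩, q, hq, b, hb, e⟩
  choose δ q hq b hb hbe using key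
  have hbS : ∀ d : ↥((S : Subgroup G) ⊓ K y), b d ∈ (S : Subgroup G) := by
    intro d
    rcases hb d with h1 | h1 <;> rw [h1]
    · exact d.2.1
    · exact mul_mem d.2.1 hyS
  have hinj : Function.Injective δ := by
    intro d d' hdd'
    have h1 : g * (b d * (b d')⁻¹) * g⁻¹ ∈ F y := by
      have e : g * (b d * (b d')⁻¹) * g⁻¹ = q d * (q d')⁻¹ := by
        calc g * (b d * (b d')⁻¹) * g⁻¹ = (g * b d * g⁻¹) * (g * b d' * g⁻¹)⁻¹ := by group
          _ = q d * δ d * (q d' * δ d')⁻¹ := by rw [hbe, hbe]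
          _ = q d * (q d')⁻¹ := by rw [hdd']; group
      rw [e]
      exact mul_mem (hq d).2 (inv_mem (hq d').2)
    rw [hFu] at h1
    have hyy : y⁻¹ = y := hyi.inv_eq
    have hdc : ∀ d : ↥((S : Subgroup G) ⊓ K y), (d : G) * y = y * d := fun d => h.yS d d.2.1
    have hdc' : ∀ d : ↥((S : Subgroup G) ⊓ K y), (d : G)⁻¹ * y = y * (d : G)⁻¹ := fun d => h.yS _ (inv_mem d.2.1)
    have h2 : b d * (b d')⁻¹ = (d : G) * (d' : G)⁻¹ ∨ b d * (b d')⁻¹ = (d : G) * (d' : G)⁻¹ * y := by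
      rcases hb d with e1 | e1 <;> rcases hb d' with e2 | e2 <;> rw [e1, e2]
      · left; rfl
      · right
        rw [mul_inv_rev, hyy, ← mul_assoc, mul_assoc, mul_assoc, hdc']
      · right
        rw [mul_assoc, mul_assoc, hdc']
      · left
        rw [mul_inv_rev, hyy, ← mul_assoc, mul_assoc (d : G) y y, hyi.sq, mul_one]
    have hmem : (d : G) * (d' : G)⁻¹ ∈ (S : Subgroup G) ⊓ K y := mul_mem d.2 (inv_mem d'.2)
    have h3 := triv _ hmem _ h2 h1
    rcases h2 with h2 | h2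
    · rw [h2] at h3
      exact Subtype.ext (mul_inv_eq_one.1 h3)
    · exfalso
      rw [h2] at h3
      have h4 : (d : G) * (d' : G)⁻¹ = y := by
        rw [mul_eq_one_iff_eq_inv, hyy] at h3
        exact h3
      have h5 : (d : G) * (d' : G)⁻¹ ∈ K y := hmem.2
      rw [h4] at h5
      exact h.y_notMem_K h5
  have hxD : ∀ d ∈ (S : Subgroup G) ⊓ K y, x * d = d * x := by
    intro d hd
    obtain ⟨d', hd'⟩ := (Finite.injective_iff_surjective.1 hinj) ⟨d, hd⟩
    have h1 := hbe d'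
    have h2 : x * (q d' * δ d') = q d' * δ d' * x := by
      rw [← h1, hx]
      have := h.yS (b d') (hbS d')
      calc g * y * g⁻¹ * (g * b d' * g⁻¹) = g * (y * b d') * g⁻¹ := by group
        _ = g * b d' * g⁻¹ * (g * y * g⁻¹) := by rw [← this]; group
    have h3 := (h.comm_split hxS (hq d') (δ d').2 h2).2
    rw [hd'] at h3
    exact h3
  -- the element `p`
  obtain ⟨p, hp, hpx⟩ := h.exists_p hxS hxi hxF (fun q hq hqF hqx _ => hQ q hq hqF hqx)
  -- the element `e`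
  obtain ⟨d, hd, hdi, -, k, hkK, hku⟩ := h.sys.k5b y h.hy _ h.syl u huS hft hcD
  obtain ⟨e, he⟩ : ∃ e, e = g * d * g⁻¹ := ⟨_, rfl⟩
  have hdz : IsConj d z := h.conj_z hd.2 hdi
  have hde : IsConj d e := isConj_iff.2 ⟨g, he.symm⟩
  have heS : e ∈ (S : Subgroup G) := by
    rw [he]
    exact hgS d hd.1 (hcD d hd).symm
  have hey : IsConj y (e * y) := by
    have h1 : e * y = g * (u * d) * g⁻¹ := by
      rw [he]
      have e1 : g * u * g⁻¹ = y := hg
      rw [← e1, hcD d hd]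
      group
    have h2 : IsConj u (u * d) := isConj_iff.2 ⟨k, hku⟩
    rw [h1]
    exact (hu.trans h2).trans (isConj_iff.2 ⟨g, rfl⟩)
  have heF : e ∉ F y := by
    rw [he, hFu]
    exact inv1 d hd hdi.sq d (Or.inl rfl) hdi.ne
  have hyF : y ∈ F y := h.hF.self y h.hy
  have heyF : e * y ∉ F y := fun hh => heF (by
    have := mul_mem hh hyF
    rwa [mul_assoc, hyi.sq, mul_one] at this)
  have heyI := h.not_inner hey heyF
  have heI : ¬ Inner K F y e := fun hh => heyI (h.hF.inner_mul h.hy hh (Sys.inner_of_F hyF))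
  have hexI : Inner K F y (e * x) := by
    have h1 : Inner K F y (g * d * g⁻¹) ∨ Inner K F y (g * d * g⁻¹ * x) := hM hd
    rw [← he] at h1
    exact h1.resolve_left heI
  have hex : e * x = x * e := by
    have h1 := h.yS d hd.1
    rw [he, hx]
    calc g * d * g⁻¹ * (g * y * g⁻¹) = g * (d * y) * g⁻¹ := by group
      _ = g * y * g⁻¹ * (g * d * g⁻¹) := by rw [h1]; group
  obtain ⟨q₀, hq₀, δ₀, hδ₀, hqd⟩ := h.hF.split y h.hy _ h.syl _ (mul_mem heS hxS) hexI
  have hdy : d ≠ y := fun e => h.y_notMem_K (e ▸ hd.2)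
  have hexi : Inv (e * x) := by
    have e1 : e * x = g * (d * y) * g⁻¹ := by rw [he, hx]; group
    rw [e1]
    exact (hdi.mul hyi (h.yS d hd.1) hdy).conj g
  have hq₀x : q₀ * x = x * q₀ := by
    have h1 : x * (q₀ * δ₀) = q₀ * δ₀ * x := by
      rw [← hqd, ← mul_assoc, hex]
    exact (h.comm_split hxS hq₀ hδ₀ h1).1.symm
  rcases hQ q₀ hq₀.1 hq₀.2 hq₀x with hq1 | hq1
  · rw [hq1, one_mul] at hqd
    rw [hqd] at hexi
    have h1 : IsConj δ₀ z := h.conj_z hδ₀.2 hexi
    -- `δ₀ ~ d y ~ z y`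
    have h2 : IsConj (d * y) δ₀ := by
      rw [← hqd, he, hx]
      exact isConj_iff.2 ⟨g, by group⟩
    obtain ⟨k', hk', hk''⟩ := h.hF.one y h.hy d hd.2 z h.zK hdi h.zI
    have h3 : IsConj (d * y) (z * y) := by
      refine isConj_iff.2 ⟨k', ?_⟩
      have h4 := h.hF.centK y h.hy k' hk'
      calc k' * (d * y) * k'⁻¹ = k' * d * k'⁻¹ * (k' * y * k'⁻¹) := by group
        _ = z * y := by rw [hk'', h4, mul_inv_cancel_right]
    apply h.not_z_yz
    rw [← h.yS z h.z_mem]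
    exact (h1.symm.trans h2.symm).trans h3
  · rw [hq1] at hqd
    -- `e = y δ₀ x`
    have e1 : e = y * δ₀ * x := by
      rw [← hqd, mul_assoc, hxi.sq, mul_one]
    have hpδ := h.commQD hp hδ₀
    have hpy : p * y = y * p := h.yS p hp.1
    have e2 : p * e * p⁻¹ = e * y := by
      calc p * e * p⁻¹ = p * y * δ₀ * x * p⁻¹ := by rw [e1]; group
        _ = y * (p * δ₀) * x * p⁻¹ := by rw [hpy]; group
        _ = y * δ₀ * (p * x * p⁻¹) := by rw [hpδ]; group
        _ = y * δ₀ * (x * y) := by rw [hpx]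
        _ = e * y := by rw [e1]; group
    have h1 : IsConj e (e * y) := isConj_iff.2 ⟨p, e2⟩
    exact h.ne (((hey.trans h1.symm).trans hde.symm).trans hdz)

/-- (8.2) -/
theorem not_ft {u : G} (hu : IsConj y u) : ¬ FT K F A y u := by
  intro hft
  obtain ⟨g, hgy, hguS, hgc⟩ := h.sys.k5 y h.hy _ h.syl u hft
  have h1 : FT K F A y (g * u * g⁻¹) := by
    have := h.sys.ft_conj h.hy g hft
    rwa [Sys.conj_self hgy] at this
  exact h.not_ft_aux hguS (hu.trans (isConj_iff.2 ⟨g, rfl⟩)) h1 hgc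

end Ctx8

end Cfsg.Agent.GH.MTwo
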