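import Cfsg.Agent.GH.MTwo.EightB

/-!
# GH-L2, `m_2(Q) = 2`, section 8: (8.5), (8.6) and the conclusion
-/

set_option autoImplicit false
set_option linter.unusedSectionVars false

namespace Cfsg.Agent.GH.MTwo

open Subgroup Cfsg.Agent.GH.TOne

variable {G : Type*} [Group G]

namespace Ctx8

variable {X : Set G} {K F A : G → Subgroup G} {n : ℕ} {S : Sylow 2 G} {y z : G}
variable [Finite G] (h : Ctx8 X K F A n S y z)
include h

/-- conjugates of `y` in `S` outside `Q₁` are of d-type -/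
theorem notMem_A {u : G} (huS : u ∈ (S : Subgroup G)) (hu : IsConj y u) (hF : u ∉ F y) : u ∉ A y := by
  intro hA
  exact h.not_ft hu ⟨h.hF.inv u (h.mem_X hu), h.yS u huS, hA, h.not_inner hu hF⟩

/-- ... and `y` is of d-type on `K u` -/
theorem notMem_A' {u : G} (huS : u ∈ (S : Subgroup G)) (hu : IsConj y u) (hF : u ∉ F y) : y ∉ A u := by
  obtain ⟨g, hg, hgS⟩ := h.exists_h' hu huS
  have huX := h.mem_X hu
  have hxS : g * y * g⁻¹ ∈ (S : Subgroup G) := hgS y h.y_mem (h.yS u huS).symm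
  have hxF : g * y * g⁻¹ ∉ F y := by
    intro hh
    have h1 := h.hF.memF_conj_iff huX g y
    rw [hg] at h1
    exact hF (h.hF.symm huX h.hy (h1.1 hh))
  have h2 := h.notMem_A hxS (isConj_iff.2 ⟨g, rfl⟩) hxF
  intro hA
  have h3 := h.sys.memA_conj_iff huX g y
  rw [hg] at h3
  exact h2 (h3.2 hA)

/-- (8.5), (8.6): the conjugates of `y` in `S` lie in `Q₁` -/
theorem mem_F {u : G} (huS : u ∈ (S : Subgroup G)) (hu : IsConj y u) : u ∈ F y := by
  by_contra huF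
  obtain ⟨g, hg, hgS⟩ := h.exists_h' hu huS
  have huX := h.mem_X hu
  have hyi := h.yI
  have hzi := h.zI
  have hyF : y ∈ F y := h.hF.self y h.hy
  obtain ⟨x, hx⟩ : ∃ x, x = g * y * g⁻¹ := ⟨_, rfl⟩
  have hxS : x ∈ (S : Subgroup G) := by
    rw [hx]
    exact hgS y h.y_mem (h.yS u huS).symm
  have hxc : IsConj y x := isConj_iff.2 ⟨g, hx.symm⟩
  have hxX := h.mem_X hxc
  have hxi : Inv x := h.hF.inv x hxX
  have hFu : ∀ b : G, g * b * g⁻¹ ∈ F y ↔ b ∈ F u := by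
    intro b
    have := h.hF.memF_conj_iff huX g b
    rwa [hg] at this
  have hxF : x ∉ F y := by
    rw [hx, hFu]
    exact fun hh => huF (h.hF.symm huX h.hy hh)
  have hxA := h.notMem_A hxS hxc hxF
  have huA := h.notMem_A huS hu huF
  have hyAu := h.notMem_A' huS hu huF
  have hyAx := h.notMem_A' hxS hxc hxF
  obtain ⟨e, he⟩ : ∃ e, e = g * z * g⁻¹ := ⟨_, rfl⟩
  have heS : e ∈ (S : Subgroup G) := by
    rw [he]
    exact hgS z h.z_mem (h.zS u huS).symm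
  have hze : IsConj z e := isConj_iff.2 ⟨g, he.symm⟩
  have hzmem : z ∈ (S : Subgroup G) ⊓ K y := ⟨h.z_mem, h.zK⟩
  -- `u ~ u z`
  obtain ⟨r, s, hrs⟩ := h.sys.k4 y h.hy _ h.syl u huS (h.hF.inv u huX) huA
  obtain ⟨⟨d, hd, hdu⟩, -⟩ := dtype_facts h.hF.two_le hrs (h.hF.inv u huX) hzmem hzi (h.zS u huS).symm
  have hey : IsConj y (e * y) := by
    have h1 : e * y = g * (u * z) * g⁻¹ := by
      have e1 : g * u * g⁻¹ = y := hg
      have e2 := h.zS u huS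
      rw [he, e2, ← e1]
      group
    rw [h1]
    exact (hu.trans (isConj_iff.2 ⟨d, hdu⟩)).trans (isConj_iff.2 ⟨g, rfl⟩)
  have hzF : z ∉ F u := by
    intro hh
    have h1 := (h.hF.shareI_iff huX h.hz hh (h.yS u huS).symm (h.zS y h.y_mem)).2 (Sys.inner_of_K h.yK)
    exact hyAu (h.sys.inner_le_A huX h1)
  have heF : e ∉ F y := by
    rw [he, hFu]
    exact hzF
  have heyF : e * y ∉ F y := fun hh => heF (by
    have := mul_mem hh hyF
    rwa [mul_assoc, hyi.sq, mul_one] at this)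
  have heyA := h.notMem_A (mul_mem heS h.y_mem) hey heyF
  have heA : e ∉ A y := fun hh => heyA (mul_mem hh (h.sys.F_le_A y h.hy hyF))
  have hxe : x * e = g * (y * z) * g⁻¹ := by rw [hx, he]; group
  have hxec : x * e = e * x := by
    have := h.yS z h.z_mem
    rw [hx, he]
    calc g * y * g⁻¹ * (g * z * g⁻¹) = g * (y * z) * g⁻¹ := by group
      _ = g * z * g⁻¹ * (g * y * g⁻¹) := by rw [← this]; group
  have hei : Inv e := by
    rw [he]
    exact hzi.conj g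
  have hxne : x ≠ e := fun e1 => h.ne ((e1 ▸ hxc : IsConj y e).trans hze.symm)
  have hxI : ¬ Inner K F y x := fun hh => hxA (h.sys.inner_le_A h.hy hh)
  have heI : ¬ Inner K F y e := fun hh => heA (h.sys.inner_le_A h.hy hh)
  have hxeI : Inner K F y (x * e) := h.hF.outer_mul y h.hy _ h.syl x hxS e heS hxi hei hxec hxne hxI heI
  have hxeX : x * e ∉ X := by
    rw [hxe]
    intro hh
    have := h.hF.conj _ hh g⁻¹
    have e1 : g⁻¹ * (g * (y * z) * g⁻¹) * g⁻¹⁻¹ = y * z := by group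
    rw [e1] at this
    exact h.yz_not this
  have hxei : Inv (x * e) := hxi.mul hei hxec hxne
  obtain ⟨q, hq, δ, hδ, hqd⟩ := h.hF.split y h.hy _ h.syl _ (mul_mem hxS heS) hxeI
  -- `δ ∈ {1, z}`
  have hcs := h.comm_split hxS hq hδ (by
    rw [← hqd, mul_assoc x e x, ← hxec])
  obtain ⟨r', s', hrs'⟩ := h.sys.k4 y h.hy _ h.syl x hxS hxi hxA
  obtain ⟨⟨d', hd', hdx⟩, hcx⟩ := dtype_facts h.hF.two_le hrs' hxi hzmem hzi (h.zS x hxS).symm
  have hδz : δ = z := by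
    rcases hcx δ hδ hcs.2.symm with h1 | h1
    · exfalso
      rw [h1, mul_one] at hqd
      rw [hqd] at hxeX hxei
      exact hxeX (h.hF.closed y h.hy q hq.2 hxei)
    · exact h1
  rw [hδz] at hqd
  have hq2 : q * q = 1 := by
    have h1 := hxei.sq
    have h2 : Commute z q := (h.zS q hq.1).symm
    rw [hqd, Commute.mul_mul_mul_comm h2, hzi.sq, mul_one] at h1
    exact h1
  have hq1 : q ≠ 1 := by
    intro h1
    rw [h1, one_mul] at hqd
    rw [hqd] at hxeX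
    exact hxeX h.hz
  -- the involutions of `C_{Q₁}(x)`
  have hQ : ∀ q ∈ (S : Subgroup G), q ∈ F y → q * x = x * q → q * q = 1 → q = 1 ∨ q = y := by
    intro q₁ hq₁S hq₁F hq₁x hq₁2
    by_contra hcon
    push Not at hcon
    obtain ⟨hne1, hney⟩ := hcon
    have hi₁ : Inv q₁ := ⟨hq₁2, hne1⟩
    -- one of `q₁`, `q₁ y` lies in `A x`
    have hor : ∃ q' ∈ (S : Subgroup G), q' ∈ F y ∧ q' * x = x * q' ∧ Inv q' ∧ q' ∈ A x := by
      by_cases hA : q₁ ∈ A x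
      · exact ⟨q₁, hq₁S, hq₁F, hq₁x, hi₁, hA⟩
      · refine ⟨q₁ * y, mul_mem hq₁S h.y_mem, mul_mem hq₁F hyF, ?_, hi₁.mul hyi (h.yS q₁ hq₁S) hney, ?_⟩
        · rw [mul_assoc, ← h.yS x hxS, ← mul_assoc, hq₁x, mul_assoc]
        · exact h.sys.A_mul x hxX q₁ y hq₁x (h.yS x hxS).symm hA hyAx
    obtain ⟨q', hq'S, hq'F, hq'x, hq'i, hq'A⟩ := hor
    have hq'X : q' ∈ X := h.hF.closed y h.hy q' hq'F hq'i
    have hq'Fx : q' ∉ F x := by
      intro hh
      have h1 : x ∈ F q' := h.hF.symm hxX hq'X hh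
      exact hxF ((h.hF.share_iff h.hy hq'X hq'F (h.yS x hxS) hq'x.symm).2 h1)
    by_cases hI : Inner K F x q'
    · have h1 := h.five.mem_K x hxX q' hq'X hq'Fx hI
      exact h.not_conj_z hq'S hq'F (h.conj_z' hxc h1 hq'i).symm
    · have h1 : FT K F A x q' := ⟨hq'i, hq'x, hq'A, hI⟩
      have h2 := h.sys.fs x hxX q' hq'X h1
      have h3 : y ∈ F q' := h.hF.symm h.hy hq'X hq'F
      exact h.not_ft hxc (h.sys.ft_share hq'X h.hy h3 (h.yS x hxS) h2)
  have hqy : q = y := (hQ q hq.1 hq.2 hcs.1.symm hq2).resolve_left hq1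
  obtain ⟨p, hp, hpx⟩ := h.exists_p hxS hxi hxF hQ
  rw [hqy] at hqd
  have he1 : e = x * (y * z) := by
    rw [← hqd, ← mul_assoc, hxi.sq, one_mul]
  have hpz : p * z = z * p := h.zS p hp.1
  have h1 : IsConj x e := by
    refine isConj_iff.2 ⟨p * d', ?_⟩
    calc p * d' * x * (p * d')⁻¹ = p * (d' * x * d'⁻¹) * p⁻¹ := by group
      _ = p * x * z * p⁻¹ := by rw [hdx]; group
      _ = p * x * (z * p⁻¹) := by group
      _ = p * x * (p⁻¹ * z) := by rw [h.zS p⁻¹ ((S : Subgroup G).inv_mem hp.1)]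
      _ = p * x * p⁻¹ * z := by group
      _ = e := by rw [hpx, he1]; group
  exact h.ne ((hxc.trans h1).trans hze.symm)

/-- (8.6): the involutions of `Q₁` are only conjugate to elements of `Q₁` in `S` -/
theorem closed {q t : G} (hqS : q ∈ (S : Subgroup G)) (hqF : q ∈ F y) (hqi : Inv q) (htS : t ∈ (S : Subgroup G))
    (hqt : IsConj q t) : t ∈ F y := by
  obtain ⟨w, hwS, hqw, hw⟩ := exists_extremal S hqS
  have hqX : q ∈ X := h.hF.closed y h.hy q hqF hqi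
  have hwX : w ∈ X := by
    obtain ⟨c, rfl⟩ := isConj_iff.1 hqw
    exact h.hF.conj q hqX c
  have move : ∀ v : G, v ∈ (S : Subgroup G) → IsConj v w → ∃ g : G, g * v * g⁻¹ = w ∧ g * y * g⁻¹ ∈ (S : Subgroup G) := by
    intro v hvS hvw
    obtain ⟨c, hc⟩ := isConj_iff.1 hvw
    obtain ⟨g, hg, hgS⟩ := exists_conj_le hw (isPGroup_zpowers_of_sq (h.yI.conj c).sq) (by
      intro s hs
      obtain ⟨k, rfl⟩ := mem_zpowers_iff.1 hs
      have h1 : Commute (c * y * c⁻¹) w := by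
        rw [← hc]
        have := h.yS v hvS
        change c * y * c⁻¹ * (c * v * c⁻¹) = c * v * c⁻¹ * (c * y * c⁻¹)
        calc c * y * c⁻¹ * (c * v * c⁻¹) = c * (y * v) * c⁻¹ := by group
          _ = c * v * c⁻¹ * (c * y * c⁻¹) := by rw [← this]; group
      exact h1.zpow_left k)
    refine ⟨g * c, ?_, ?_⟩
    · calc g * c * v * (g * c)⁻¹ = g * (c * v * c⁻¹) * g⁻¹ := by group
        _ = w := by rw [hc, hg]; group
    · have := (hgS _ (mem_zpowers _)).1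
      have e : g * c * y * (g * c)⁻¹ = g * (c * y * c⁻¹) * g⁻¹ := by group
      rw [e]
      exact this
  -- `w ∈ F y`
  have hwF : w ∈ F y := by
    obtain ⟨a, ha, haS⟩ := move q hqS hqw
    have h1 : a * y * a⁻¹ ∈ F y := h.mem_F haS (isConj_iff.2 ⟨a, rfl⟩)
    have h2 : a * y * a⁻¹ ∈ X := h.hF.conj y h.hy a
    have h3 : w ∈ F (a * y * a⁻¹) := by
      have := h.hF.conjF y h.hy a q hqF
      rwa [ha] at this
    exact (h.hF.share_iff h.hy h2 h1 (h.yS w hwS) (h.hF.centF _ h2 w h3)).2 h3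
  obtain ⟨b, hb, hbS⟩ := move t htS (hqt.symm.trans hqw)
  have h1 : b * y * b⁻¹ ∈ F y := h.mem_F hbS (isConj_iff.2 ⟨b, rfl⟩)
  have h2 : b * y * b⁻¹ ∈ X := h.hF.conj y h.hy b
  have hc : w * (b * y * b⁻¹) = b * y * b⁻¹ * w := by
    have := h.yS t htS
    rw [← hb]
    calc b * t * b⁻¹ * (b * y * b⁻¹) = b * (t * y) * b⁻¹ := by group
      _ = b * y * b⁻¹ * (b * t * b⁻¹) := by rw [this]; group
  have h3 : w ∈ F (b * y * b⁻¹) := (h.hF.share_iff h.hy h2 h1 (h.yS w hwS) hc).1 hwF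
  rw [← hb] at h3
  exact (h.hF.memF_conj_iff h.hy b t).1 h3

/-- Section 8: the situation is impossible. -/
theorem false (hL : LemS X F) : False := by
  obtain ⟨a, ha, hai, hay⟩ := h.exists_Q
  have main := hL {x | ∃ q ∈ (S : Subgroup G), q ∈ F y ∧ Inv q ∧ IsConj q x} ?_ ?_ ?_ ?_
  · obtain ⟨y₁, ⟨q₁, hq₁S, hq₁F, hq₁i, hq₁⟩, t₁, ⟨q₂, hq₂S, hq₂F, hq₂i, hq₂⟩, hyt, htF⟩ := main
    apply htF
    obtain ⟨w, hwS, hqw, hw⟩ := exists_extremal S hq₁S
    have hwF := h.closed hq₁S hq₁F hq₁i hwS hqw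
    have hq₁X : q₁ ∈ X := h.hF.closed y h.hy q₁ hq₁F hq₁i
    obtain ⟨c, hc⟩ := isConj_iff.1 (hq₁.symm.trans hqw)
    have hwi : Inv w := by
      obtain ⟨c', hc'⟩ := isConj_iff.1 hqw
      rw [← hc']
      exact hq₁i.conj c'
    have hwX : w ∈ X := h.hF.closed y h.hy w hwF hwi
    have ht₁i : Inv t₁ := by
      obtain ⟨c', hc'⟩ := isConj_iff.1 hq₂
      rw [← hc']
      exact hq₂i.conj c'
    obtain ⟨g, hg, hgS⟩ := exists_conj_le hw (isPGroup_zpowers_of_sq (ht₁i.conj c).sq) (by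
      intro s hs
      obtain ⟨k, rfl⟩ := mem_zpowers_iff.1 hs
      have h1 : Commute (c * t₁ * c⁻¹) w := by
        rw [← hc]
        change c * t₁ * c⁻¹ * (c * y₁ * c⁻¹) = c * y₁ * c⁻¹ * (c * t₁ * c⁻¹)
        calc c * t₁ * c⁻¹ * (c * y₁ * c⁻¹) = c * (t₁ * y₁) * c⁻¹ := by group
          _ = c * y₁ * c⁻¹ * (c * t₁ * c⁻¹) := by rw [← hyt]; group
      exact h1.zpow_left k)
    have htS := hgS _ (mem_zpowers _)
    have h1 : g * (c * t₁ * c⁻¹) * g⁻¹ ∈ F y := by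
      refine h.closed hq₂S hq₂F hq₂i htS.1 (hq₂.trans (isConj_iff.2 ⟨g * c, by group⟩))
    have h2 : g * (c * t₁ * c⁻¹) * g⁻¹ ∈ F w :=
      h.hF.trans hwX h.hy hwF h1 (mem_centralizer_singleton_iff.1 htS.2)
    have hgw : g * w * g⁻¹ = w := by rw [hg]; group
    have h3 : g * (c * t₁ * c⁻¹) * g⁻¹ ∈ F (g * w * g⁻¹) := by rw [hgw]; exact h2
    rw [h.hF.memF_conj_iff hwX] at h3
    rw [← hc] at h3
    have hy₁X : y₁ ∈ X := by
      obtain ⟨c', hc'⟩ := isConj_iff.1 hq₁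
      rw [← hc']
      exact h.hF.conj q₁ hq₁X c'
    exact (h.hF.memF_conj_iff hy₁X c t₁).1 h3
  · rintro x ⟨q, hqS, hqF, hqi, hqx⟩
    obtain ⟨c, rfl⟩ := isConj_iff.1 hqx
    exact h.hF.conj q (h.hF.closed y h.hy q hqF hqi) c
  · exact ⟨a, a, ha.1, ha.2, hai, IsConj.refl a⟩
  · rintro x ⟨q, hqS, hqF, hqi, hqx⟩ g
    exact ⟨q, hqS, hqF, hqi, hqx.trans (isConj_iff.2 ⟨g, rfl⟩)⟩
  · rintro x ⟨q, hqS, hqF, hqi, hqx⟩ t htF hti
    obtain ⟨w, hwS, hqw, hw⟩ := exists_extremal S hqS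
    have hwF := h.closed hqS hqF hqi hwS hqw
    have hqX : q ∈ X := h.hF.closed y h.hy q hqF hqi
    have hwi : Inv w := by
      obtain ⟨c', hc'⟩ := isConj_iff.1 hqw
      rw [← hc']
      exact hqi.conj c'
    have hwX : w ∈ X := h.hF.closed y h.hy w hwF hwi
    have hxX : x ∈ X := by
      obtain ⟨c, rfl⟩ := isConj_iff.1 hqx
      exact h.hF.conj q hqX c
    obtain ⟨c, hc⟩ := isConj_iff.1 (hqx.symm.trans hqw)
    have ht' : c * t * c⁻¹ ∈ F w := by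
      have := h.hF.conjF x hxX c t htF
      rwa [hc] at this
    obtain ⟨g, hg, hgS⟩ := exists_conj_le hw (isPGroup_zpowers_of_sq (hti.conj c).sq) (by
      intro s hs
      obtain ⟨k, rfl⟩ := mem_zpowers_iff.1 hs
      exact (show Commute (c * t * c⁻¹) w from h.hF.centF w hwX _ ht').zpow_left k)
    have htS := hgS _ (mem_zpowers _)
    have h2 : g * (c * t * c⁻¹) * g⁻¹ ∈ F w := h.hF.conjF_self hwX hg ht'
    have h3 : g * (c * t * c⁻¹) * g⁻¹ ∈ F y :=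
      (h.hF.share_iff h.hy hwX hwF (h.yS _ htS.1) (h.hF.centF w hwX _ h2)).2 h2
    exact ⟨_, htS.1, h3, (hti.conj c).conj g, isConj_iff.2 ⟨c⁻¹ * g⁻¹, by group⟩⟩

end Ctx8

/-- Section 8 of the blueprint. -/
theorem eight [Finite G] {X : Set G} {K F A : G → Subgroup G} {n : ℕ} (hX : OSys X K F A n) (h5 : Five X K F)
    (hL : LemS X F) (S : Sylow 2 G) {y z : G} (hy : y ∈ X) (hz : z ∈ X)
    (hyS : ∀ s ∈ (S : Subgroup G), s * y = y * s) (hzS : ∀ s ∈ (S : Subgroup G), s * z = z * s)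
    (hzK : z ∈ K y) (hyK : y ∈ K z) (hyz : ¬ IsConj y z) : False :=
  Ctx8.false ⟨hX, h5, hy, hz, hyS, hzS, hzK, hyK, hyz⟩ hL

end Cfsg.Agent.GH.MTwo
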